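import Mathlib.CategoryTheory.Linear.LinearFunctor
import Mathlib.CategoryTheory.Preadditive.AdditiveFunctor
import Mathlib.CategoryTheory.Equivalence
import Mathlib.LinearAlgebra.PerfectPairing.Basic
import Mathlib.LinearAlgebra.Dual.Lemmas

/-!
# Nondegenerate traces and Serre functors
-/

set_option autoImplicit false
universe w v u

open CategoryTheory

noncomputable section

namespace GrothLib.Serre25

variable {k : Type w} [Field k] {T : Type u} [Category.{v} T] [Preadditive T] [Linear k T]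

/-- A trace making `SX` a Serre dual of `X`. -/
structure Ser (k : Type w) [Field k] {T : Type u} [Category.{v} T] [Preadditive T] [Linear k T] (X SX : T) where
  tr : (X ⟶ SX) →ₗ[k] k
  injL : ∀ {Y : T} (f : X ⟶ Y), (∀ g : Y ⟶ SX, tr (f ≫ g) = 0) → f = 0
  injR : ∀ {Y : T} (g : Y ⟶ SX), (∀ f : X ⟶ Y, tr (f ≫ g) = 0) → g = 0

namespace Ser

variable {X SX : T} (s : Ser k X SX)

/-- The pairing. -/
def P (Y : T) : (X ⟶ Y) →ₗ[k] (Y ⟶ SX) →ₗ[k] k :=
  LinearMap.mk₂ k (fun f g => s.tr (f ≫ g))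
    (fun f f' g => by rw [Preadditive.add_comp, map_add])
    (fun r f g => by rw [Linear.smul_comp, map_smul, smul_eq_mul])
    (fun f g g' => by rw [Preadditive.comp_add, map_add])
    (fun r f g => by rw [Linear.comp_smul, map_smul, smul_eq_mul])

theorem P_apply {Y : T} (f : X ⟶ Y) (g : Y ⟶ SX) : s.P Y f g = s.tr (f ≫ g) := rfl

theorem P_injective (Y : T) : Function.Injective (s.P Y) :=
  (injective_iff_map_eq_zero _).2 fun f hf => s.injL f fun g => LinearMap.congr_fun hf g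

theorem flip_injective (Y : T) : Function.Injective (s.P Y).flip :=
  (injective_iff_map_eq_zero _).2 fun g hg => s.injR g fun f => LinearMap.congr_fun hg f

theorem ext_right {Y : T} {g g' : Y ⟶ SX} (h : ∀ f : X ⟶ Y, s.tr (f ≫ g) = s.tr (f ≫ g')) : g = g' :=
  s.flip_injective Y (LinearMap.ext h)

variable [∀ X Y : T, Module.Finite k (X ⟶ Y)]

theorem isPerfPair (Y : T) : (s.P Y).IsPerfPair :=
  LinearMap.IsPerfPair.of_injective (s.P_injective Y) (s.flip_injective Y)

theorem P_bijective (Y : T) : Function.Bijective (s.P Y) :=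
  haveI := s.isPerfPair Y
  LinearMap.IsPerfPair.bijective_left _

theorem exists_right {Y : T} (φ : Module.Dual k (X ⟶ Y)) : ∃ g : Y ⟶ SX, ∀ f, s.tr (f ≫ g) = φ f := by
  have := s.isPerfPair Y
  obtain ⟨g, hg⟩ := (LinearMap.IsPerfPair.bijective_right (s.P Y)).2 φ
  exact ⟨g, fun f => LinearMap.congr_fun hg f⟩

/-- The morphism of Serre duals attached to a morphism. -/
theorem exists_map {X' SX' : T} (s' : Ser k X' SX') (a : X' ⟶ X) :
    ∃ h : SX' ⟶ SX, ∀ g : X ⟶ SX', s.tr (g ≫ h) = s'.tr (a ≫ g) :=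
  s.exists_right (s'.tr ∘ₗ Linear.leftComp k SX' a)

/-- The morphism of Serre duals attached to a morphism. -/
def map {X' SX' : T} (s' : Ser k X' SX') (s : Ser k X SX) (a : X' ⟶ X) : SX' ⟶ SX := (s.exists_map s' a).choose

theorem map_spec {X' SX' : T} (s' : Ser k X' SX') (a : X' ⟶ X) (g : X ⟶ SX') :
    s.tr (g ≫ map s' s a) = s'.tr (a ≫ g) :=
  (s.exists_map s' a).choose_spec g

theorem eq_map {X' SX' : T} (s' : Ser k X' SX') (a : X' ⟶ X) {h : SX' ⟶ SX}
    (hh : ∀ g : X ⟶ SX', s.tr (g ≫ h) = s'.tr (a ≫ g)) : h = map s' s a :=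
  s.ext_right fun g => (hh g).trans (s.map_spec s' a g).symm

theorem map_id : map s s (𝟙 X) = 𝟙 SX :=
  (s.eq_map s (𝟙 X) fun g => by rw [Category.comp_id, Category.id_comp]).symm

theorem map_comp {X' SX' X'' SX'' : T} (s' : Ser k X' SX') (s'' : Ser k X'' SX'') (a : X'' ⟶ X') (b : X' ⟶ X) :
    map s'' s (a ≫ b) = map s'' s' a ≫ map s' s b :=
  (s.eq_map s'' (a ≫ b) fun g => by
    rw [← Category.assoc, s.map_spec, ← Category.assoc, s'.map_spec, Category.assoc]).symm

theorem map_bijective {X' SX' : T} (s' : Ser k X' SX') : Function.Bijective (map s' s) := by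
  refine ⟨fun a b hab => s'.P_injective X (LinearMap.ext fun g => ?_), fun h => ?_⟩
  · rw [P_apply, P_apply, ← s.map_spec, ← s.map_spec, hab]
  · obtain ⟨a, ha⟩ := (s'.P_bijective X).2 (s.tr ∘ₗ Linear.rightComp k X h)
    exact ⟨a, (s.eq_map s' a fun g => (LinearMap.congr_fun ha g).symm).symm⟩

/-- Two Serre duals of an object are isomorphic. -/
def iso {SX' : T} (s' : Ser k X SX') : SX ≅ SX' where
  hom := map s s' (𝟙 X)
  inv := map s' s (𝟙 X)
  hom_inv_id := by rw [← map_comp, Category.id_comp, map_id]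
  inv_hom_id := by rw [← map_comp, Category.id_comp, map_id]

theorem iso_spec {SX' : T} (s' : Ser k X SX') (g : X ⟶ SX) : s'.tr (g ≫ (s.iso s').hom) = s.tr g :=
  (s'.map_spec s (𝟙 X) g).trans (congrArg s.tr (Category.id_comp g))

theorem iso_natural {SX₂ X' SX' SX₂' : T} (s₂ : Ser k X SX₂) (s' : Ser k X' SX') (s₂' : Ser k X' SX₂') (a : X' ⟶ X) :
    map s' s a ≫ (s.iso s₂).hom = (s'.iso s₂').hom ≫ map s₂' s₂ a := by
  change map s' s a ≫ map s s₂ (𝟙 X) = map s' s₂' (𝟙 X') ≫ map s₂' s₂ a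
  rw [← map_comp, ← map_comp, Category.comp_id, Category.id_comp]

/-- The functor attached to a choice of Serre duals. -/
def functor {SF : T → T} (s : ∀ X, Ser k X (SF X)) : T ⥤ T where
  obj := SF
  map {X Y} a := map (s X) (s Y) a
  map_id X := (s X).map_id
  map_comp {X Y Z} a b := (s Z).map_comp (s Y) (s X) a b

instance functor_additive {SF : T → T} (s : ∀ X, Ser k X (SF X)) : (functor s).Additive :=
  ⟨fun {X Y a b} => ((s Y).eq_map (s X) (a + b) (h := map (s X) (s Y) a + map (s X) (s Y) b) fun g => by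
    rw [Preadditive.comp_add, map_add, Preadditive.add_comp, map_add]
    exact congrArg₂ (· + ·) ((s Y).map_spec (s X) a g) ((s Y).map_spec (s X) b g)).symm⟩

instance functor_linear {SF : T → T} (s : ∀ X, Ser k X (SF X)) : (functor s).Linear k :=
  ⟨fun {X Y} a r => ((s Y).eq_map (s X) (r • a) (h := r • map (s X) (s Y) a) fun g => by
    rw [Linear.comp_smul, map_smul, Linear.smul_comp, map_smul]
    exact congrArg (r • ·) ((s Y).map_spec (s X) a g)).symm⟩

end Ser

section Data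

variable (F : T → T) (c : ∀ X Y : T, (X ⟶ Y) ≃ₗ[k] Module.Dual k (Y ⟶ F X))
  (hc₁ : ∀ (X Y Y' : T) (f : X ⟶ Y) (g : Y ⟶ Y'), c X Y' (f ≫ g) = (c X Y f) ∘ₗ Linear.leftComp k (F X) g)

include hc₁ in
theorem c_eq (X Y : T) (f : X ⟶ Y) (g : Y ⟶ F X) : c X Y f g = c X X (𝟙 X) (f ≫ g) := by
  conv_lhs => rw [← Category.id_comp f, hc₁ X X Y (𝟙 X) f]
  rfl

variable [∀ X Y : T, Module.Finite k (X ⟶ Y)]

/-- The trace of Serre data. -/
def serOf (X : T) : Ser k X (F X) where
  tr := c X X (𝟙 X)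
  injL {Y} f h := (c X Y).injective (((LinearMap.ext fun g => (c_eq F c hc₁ X Y f g).trans (h g)) :
    c X Y f = 0).trans (map_zero _).symm)
  injR {Y} g h := (Module.forall_dual_apply_eq_zero_iff k g).1 fun φ => by
    obtain ⟨f, rfl⟩ := (c X Y).surjective φ
    exact (c_eq F c hc₁ X Y f g).trans (h f)

omit [∀ X Y : T, Module.Finite k (X ⟶ Y)] in
theorem c_eq_tr (X Y : T) (f : X ⟶ Y) (g : Y ⟶ F X) : c X Y f g = (serOf F c hc₁ X).tr (f ≫ g) :=
  c_eq F c hc₁ X Y f g

end Data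

end GrothLib.Serre25
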