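import Groth.Agent.Lib.Serre25.Basic
import Mathlib.CategoryTheory.Triangulated.Pretriangulated

/-!
# Serre functors are triangulated
-/

set_option autoImplicit false
universe w v u

open CategoryTheory CategoryTheory.Limits CategoryTheory.Pretriangulated

noncomputable section

namespace GrothLib.Serre25

variable {k : Type w} [Field k]

theorem exists_dual_ext {V W : Type*} [AddCommGroup V] [Module k V] [AddCommGroup W] [Module k W]
    (L : V →ₗ[k] W) (φ : Module.Dual k V) (h : ∀ v, L v = 0 → φ v = 0) :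
    ∃ Λ : Module.Dual k W, ∀ v, Λ (L v) = φ v := by
  have hφ : φ ∈ LinearMap.range L.dualMap := by
    rw [LinearMap.range_dualMap_eq_dualAnnihilator_ker, Submodule.mem_dualAnnihilator]
    exact fun v hv => h v hv
  obtain ⟨Λ, rfl⟩ := hφ
  exact ⟨Λ, fun v => rfl⟩

variable {T : Type u} [Category.{v} T] [Preadditive T] [Linear k T] [∀ X Y : T, Module.Finite k (X ⟶ Y)]

namespace Ser

/-- Serre duals turn exactness around. -/
theorem exists_factor {A B C SA SB SC : T} (sA : Ser k A SA) (sB : Ser k B SB) (sC : Ser k C SC)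
    (a : A ⟶ B) (b : B ⟶ C) (hex : ∀ {W : T} (h : B ⟶ W), a ≫ h = 0 → ∃ j, h = b ≫ j) {W : T}
    (y : W ⟶ SB) (hy : y ≫ map sB sC b = 0) : ∃ z : W ⟶ SA, y = z ≫ map sA sB a := by
  obtain ⟨Λ, hΛ⟩ := exists_dual_ext (Linear.leftComp k W a) (sB.tr ∘ₗ Linear.rightComp k B y) fun h hh => by
    obtain ⟨j, rfl⟩ := hex h hh
    change sB.tr ((b ≫ j) ≫ y) = 0
    rw [Category.assoc, ← sC.map_spec sB b, Category.assoc, hy, comp_zero, map_zero]
  obtain ⟨z, hz⟩ := sA.exists_right Λ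
  refine ⟨z, sB.ext_right fun h => ?_⟩
  rw [← Category.assoc, sB.map_spec, ← Category.assoc, hz]
  exact (hΛ h).symm

section Shift

variable [HasShift T ℤ] [∀ n : ℤ, (shiftFunctor T n).Additive] [∀ n : ℤ, (shiftFunctor T n).Linear k]

/-- The shift on morphisms. -/
def shiftL (X Y : T) : (X ⟶ Y) ≃ₗ[k] (X⟦(1 : ℤ)⟧ ⟶ Y⟦(1 : ℤ)⟧) :=
  LinearEquiv.ofBijective ((shiftFunctor T (1 : ℤ)).mapLinearMap k)
    ⟨(shiftFunctor T (1 : ℤ)).map_injective, (shiftFunctor T (1 : ℤ)).map_surjective⟩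

omit [∀ X Y : T, Module.Finite k (X ⟶ Y)] in
theorem shiftL_symm_map {X Y : T} (f : X ⟶ Y) : (shiftL (k := k) X Y).symm (f⟦(1 : ℤ)⟧') = f :=
  (shiftL (k := k) X Y).symm_apply_apply f

/-- The shifted trace, with its sign. -/
def shift {X SX : T} (s : Ser k X SX) : Ser k (X⟦(1 : ℤ)⟧) (SX⟦(1 : ℤ)⟧) where
  tr := -(s.tr ∘ₗ (shiftL X SX).symm.toLinearMap)
  injL {Y} f h := by
    let W := (shiftFunctor T (1 : ℤ)).objPreimage Y
    let i : W⟦(1 : ℤ)⟧ ≅ Y := (shiftFunctor T (1 : ℤ)).objObjPreimageIso Y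
    obtain ⟨f₀, hf₀⟩ := (shiftFunctor T (1 : ℤ)).map_surjective (f ≫ i.inv)
    have h₀ : f₀ = 0 := s.injL f₀ fun g => by
      have h1 := h (i.inv ≫ g⟦(1 : ℤ)⟧')
      rw [← Category.assoc, ← hf₀, ← Functor.map_comp, LinearMap.neg_apply, LinearMap.comp_apply,
        LinearEquiv.coe_coe, shiftL_symm_map, neg_eq_zero] at h1
      exact h1
    rw [← cancel_mono i.inv, ← hf₀, h₀, Functor.map_zero, zero_comp]
  injR {Y} g h := by
    let W := (shiftFunctor T (1 : ℤ)).objPreimage Y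
    let i : W⟦(1 : ℤ)⟧ ≅ Y := (shiftFunctor T (1 : ℤ)).objObjPreimageIso Y
    obtain ⟨g₀, hg₀⟩ := (shiftFunctor T (1 : ℤ)).map_surjective (i.hom ≫ g)
    have h₀ : g₀ = 0 := s.injR g₀ fun f => by
      have h1 := h (f⟦(1 : ℤ)⟧' ≫ i.hom)
      rw [Category.assoc, ← hg₀, ← Functor.map_comp, LinearMap.neg_apply, LinearMap.comp_apply,
        LinearEquiv.coe_coe, shiftL_symm_map, neg_eq_zero] at h1
      exact h1
    rw [← cancel_epi i.hom, ← hg₀, h₀, Functor.map_zero, comp_zero]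

omit [∀ X Y : T, Module.Finite k (X ⟶ Y)] in
theorem shift_tr {X SX : T} (s : Ser k X SX) (f : X ⟶ SX) : s.shift.tr (f⟦(1 : ℤ)⟧') = -s.tr f := by
  change -(s.tr ((shiftL X SX).symm (f⟦(1 : ℤ)⟧'))) = _
  rw [shiftL_symm_map]

theorem map_shift {X' SX' X SX : T} (s' : Ser k X' SX') (s : Ser k X SX) (a : X' ⟶ X) :
    map s'.shift s.shift (a⟦(1 : ℤ)⟧') = (map s' s a)⟦(1 : ℤ)⟧' :=
  (s.shift.eq_map s'.shift _ fun g => by
    obtain ⟨g₀, rfl⟩ := (shiftFunctor T (1 : ℤ)).map_surjective g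
    rw [← Functor.map_comp, ← Functor.map_comp, shift_tr, shift_tr, s.map_spec]).symm

end Shift

end Ser

variable [HasZeroObject T] [HasShift T ℤ] [∀ n : ℤ, (shiftFunctor T n).Additive]
  [∀ n : ℤ, (shiftFunctor T n).Linear k] [Pretriangulated T]

theorem exists_commShift (F : T ⥤ T) (s : ∀ X, Ser k X (F.obj X))
    (hF : ∀ {X Y : T} (a : X ⟶ Y), F.map a = Ser.map (s X) (s Y) a) :
    ∃ e : shiftFunctor T (1 : ℤ) ⋙ F ≅ F ⋙ shiftFunctor T (1 : ℤ),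
      ∀ T' ∈ distTriang T,
        Triangle.mk (F.map T'.mor₁) (F.map T'.mor₂) (F.map T'.mor₃ ≫ e.hom.app T'.obj₁) ∈ distTriang T := by
  let eX : ∀ X : T, F.obj (X⟦(1 : ℤ)⟧) ≅ (F.obj X)⟦(1 : ℤ)⟧ := fun X => (s (X⟦(1 : ℤ)⟧)).iso (s X).shift
  let e : shiftFunctor T (1 : ℤ) ⋙ F ≅ F ⋙ shiftFunctor T (1 : ℤ) :=
    NatIso.ofComponents eX fun {X Y} a => by
      change F.map (a⟦(1 : ℤ)⟧') ≫ (eX Y).hom = (eX X).hom ≫ (F.map a)⟦(1 : ℤ)⟧'
      rw [hF, hF, ← Ser.map_shift]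
      exact (s (Y⟦(1 : ℤ)⟧)).iso_natural (s Y).shift (s (X⟦(1 : ℤ)⟧)) (s X).shift (a⟦(1 : ℤ)⟧')
  refine ⟨e, fun T' hT' => ?_⟩
  obtain ⟨A, B, C, a, b, d⟩ := T'
  change (Triangle.mk (F.map a) (F.map b) (F.map d ≫ (eX A).hom)) ∈ distTriang T
  obtain ⟨Z, β, γ, hU⟩ := distinguished_cocone_triangle (F.map a)
  let L : ((C ⟶ F.obj B) × (A⟦(1 : ℤ)⟧ ⟶ Z)) →ₗ[k] (C ⟶ Z) :=
    Linear.rightComp k C β ∘ₗ LinearMap.fst k _ _ + Linear.leftComp k Z d ∘ₗ LinearMap.snd k _ _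
  let φ : Module.Dual k ((C ⟶ F.obj B) × (A⟦(1 : ℤ)⟧ ⟶ Z)) :=
    ((s B).tr ∘ₗ Linear.leftComp k (F.obj B) b) ∘ₗ LinearMap.fst k _ _ +
      ((s A).shift.tr ∘ₗ Linear.rightComp k (A⟦(1 : ℤ)⟧) γ) ∘ₗ LinearMap.snd k _ _
  obtain ⟨Λ, hΛ⟩ := exists_dual_ext L φ (by
    rintro ⟨f, g⟩ hfg
    have hsq : d ≫ (-g) = f ≫ β := by
      rw [Preadditive.comp_neg, neg_eq_iff_add_eq_zero, add_comm]
      exact hfg
    obtain ⟨m, hm₁, hm₂⟩ := complete_distinguished_triangle_morphism _ _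
      (rot_of_distTriang _ (rot_of_distTriang _ hT')) (rot_of_distTriang _ hU) f (-g) hsq
    obtain ⟨m₀, rfl⟩ := (shiftFunctor T (1 : ℤ)).map_surjective (X := B) (Y := F.obj A) m
    have h1 : (a ≫ m₀)⟦(1 : ℤ)⟧' = g ≫ γ := by
      refine neg_injective ((?_ : -((a ≫ m₀)⟦(1 : ℤ)⟧') = (-(a⟦(1 : ℤ)⟧')) ≫ m₀⟦(1 : ℤ)⟧').trans
        (hm₁.trans (Preadditive.neg_comp _ _)))
      rw [Preadditive.neg_comp, Functor.map_comp]
    have h2 : b ≫ f = m₀ ≫ F.map a := by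
      refine (shiftFunctor T (1 : ℤ)).map_injective (neg_injective ?_)
      rw [Functor.map_comp, Functor.map_comp, ← Preadditive.neg_comp, ← Preadditive.comp_neg]
      exact hm₂
    change (s B).tr (b ≫ f) + (s A).shift.tr (g ≫ γ) = 0
    rw [← h1, Ser.shift_tr, h2, hF, (s B).map_spec, add_neg_cancel])
  obtain ⟨θ, hθ⟩ := (s C).exists_right Λ
  have hb : β ≫ θ = F.map b := (s C).ext_right fun f => by
    rw [hF, (s C).map_spec, ← Category.assoc, hθ]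
    have := hΛ (f, 0)
    simpa [L, φ] using this
  have hd : θ ≫ F.map d ≫ (eX A).hom = γ := (s A).shift.ext_right fun g => by
    rw [← Category.assoc, ← Category.assoc, (s (A⟦(1 : ℤ)⟧)).iso_spec, hF, (s (A⟦(1 : ℤ)⟧)).map_spec,
      ← Category.assoc, hθ]
    have := hΛ (0, g)
    simpa [L, φ] using this
  have hab : a ≫ b = 0 := comp_distTriang_mor_zero₁₂ _ hT'
  have hda : d ≫ a⟦(1 : ℤ)⟧' = 0 := comp_distTriang_mor_zero₃₁ _ hT'
  have hSab : F.map a ≫ F.map b = 0 := by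
    rw [hF, hF, ← Ser.map_comp, hab]
    exact (((s C).eq_map (s A) (0 : A ⟶ C) (h := 0) fun g => by simp) : _).symm
  have hSda : F.map d ≫ F.map (a⟦(1 : ℤ)⟧') = 0 := by
    rw [hF, hF, ← Ser.map_comp, hda]
    exact (((s (B⟦(1 : ℤ)⟧)).eq_map (s C) (0 : C ⟶ B⟦(1 : ℤ)⟧) (h := 0) fun g => by simp) : _).symm
  have : IsIso θ := by
    refine isIso_of_yoneda_map_bijective θ fun W => ⟨fun x x' hxx => ?_, fun w => ?_⟩
    · rw [← sub_eq_zero]
      have hx : (x - x') ≫ θ = 0 := by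
        rw [Preadditive.sub_comp, sub_eq_zero]
        exact hxx
      have hγ : (x - x') ≫ γ = 0 := by rw [← hd, reassoc_of% hx, zero_comp]
      obtain ⟨y, hy⟩ : ∃ y : W ⟶ F.obj B, x - x' = y ≫ β := Triangle.coyoneda_exact₃ _ hU _ hγ
      have hy' : y ≫ F.map b = 0 := by
        rw [← hb, ← Category.assoc]
        exact (congrArg (· ≫ θ) hy.symm).trans hx
      rw [hF] at hy'
      obtain ⟨z, hz⟩ := (s A).exists_factor (s B) (s C) a b
        (fun {W} h hh => Triangle.yoneda_exact₂ _ hT' h hh) y hy'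
      refine hy.trans ?_
      rw [hz, ← hF]
      change (z ≫ F.map a) ≫ β = 0
      rw [Category.assoc, show F.map a ≫ β = 0 from comp_distTriang_mor_zero₁₂ _ hU, comp_zero]
    · have hv : (w ≫ F.map d ≫ (eX A).hom) ≫ (F.map a)⟦(1 : ℤ)⟧' = 0 := by
        have hn : F.map (a⟦(1 : ℤ)⟧') ≫ (eX B).hom = (eX A).hom ≫ (F.map a)⟦(1 : ℤ)⟧' := e.hom.naturality a
        rw [Category.assoc, Category.assoc, ← hn, reassoc_of% hSda, zero_comp, comp_zero]
      obtain ⟨x, hx⟩ : ∃ x : W ⟶ Z, w ≫ F.map d ≫ (eX A).hom = x ≫ γ := Triangle.coyoneda_exact₁ _ hU _ hv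
      have hw : (w - x ≫ θ) ≫ Ser.map (s C) (s (A⟦(1 : ℤ)⟧)) d = 0 := by
        rw [← hF, ← cancel_mono (eX A).hom, zero_comp, Preadditive.sub_comp, Preadditive.sub_comp,
          Category.assoc, Category.assoc, Category.assoc, hd, sub_eq_zero]
        exact hx
      obtain ⟨y, hy⟩ := (s B).exists_factor (s C) (s (A⟦(1 : ℤ)⟧)) b d
        (fun {W} h hh => Triangle.yoneda_exact₃ _ hT' h hh) _ hw
      rw [← hF, ← hb, sub_eq_iff_eq_add] at hy
      refine ⟨y ≫ β + x, ?_⟩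
      change (y ≫ β + x) ≫ θ = w
      rw [Preadditive.add_comp, Category.assoc, ← hy]
  refine isomorphic_distinguished _ hU _ (Triangle.isoMk _ _ (Iso.refl _) (Iso.refl _) (asIso θ).symm ?_ ?_ ?_)
  · change F.map a ≫ 𝟙 (F.obj B) = 𝟙 (F.obj A) ≫ F.map a
    rw [Category.comp_id, Category.id_comp]
  · change F.map b ≫ inv θ = 𝟙 _ ≫ β
    rw [Category.id_comp, IsIso.comp_inv_eq, hb]
  · change (F.map d ≫ (eX A).hom) ≫ (𝟙 (F.obj A))⟦(1 : ℤ)⟧' = inv θ ≫ γ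
    rw [CategoryTheory.Functor.map_id, Category.comp_id, IsIso.eq_inv_comp, hd]

end GrothLib.Serre25
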